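import Cfsg.Agent.Spor.J3aA1.D0

set_option autoImplicit false
set_option maxRecDepth 100000000
set_option Elab.async false

namespace Cfsg.Agent.Spor.J3aA1

theorem ok0 : Net.okb 1 n0 = true := by decide +kernel

theorem ok1 : Net.okb 1 n1 = true := by decide +kernel

theorem ok2 : Net.okb 1 n2 = true := by decide +kernel

theorem ok3 : Net.okb 1 n3 = true := by decide +kernel

theorem rel0 : T.rel 1 [1, 1] 0 1 = true := by decide +kernel

theorem rel1 : T.rel 1 [2, 3, 5, 5, 3, 2, 2, 6, 5, 5, 6, 2] 0 1 = true := by decide +kernel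

theorem rel2 : T.rel 1 [2, 3, 3, 3, 5] 0 1 = true := by decide +kernel

theorem rel3 : T.rel 1 [3, 2, 3, 5, 6, 2, 6, 5] 0 1 = true := by decide +kernel

theorem rel4 : T.rel 1 [3, 5, 3, 2, 6, 5, 6, 2] 0 1 = true := by decide +kernel

theorem rel5 : T.rel 1 [3, 3, 3] 0 1 = true := by decide +kernel

theorem rel6 : T.rel 1 [5, 3, 3, 3, 2] 0 1 = true := by decide +kernel

theorem rel7 : T.rel 1 [1, 2, 1, 2] 0 1 = true := by decide +kernel

theorem rel8 : T.rel 1 [1, 3, 1, 3, 1, 3, 1, 5, 3, 2, 2, 6, 5] 0 1 = true := by decide +kernel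

theorem rel9 : T.rel 1 [1, 3, 5, 6, 1, 6, 2, 3, 1, 5, 3, 2] 0 1 = true := by decide +kernel

theorem rel10 : T.rel 1 [2, 3, 4, 4, 4, 5, 3] 0 1 = true := by decide +kernel

theorem rel11 : T.rel 1 [2, 3, 5, 4, 4, 3, 4] 0 1 = true := by decide +kernel

theorem rel12 : T.rel 1 [2, 4, 4, 4, 3, 5, 3] 0 1 = true := by decide +kernel

theorem rel13 : T.rel 1 [3, 7, 1, 4, 6, 7, 1, 4] 0 1 = true := by decide +kernel

theorem rel14 : T.rel 1 [3, 7, 2, 4, 3, 7, 5, 4] 0 1 = true := by decide +kernel

theorem rel15 : T.rel 1 [7, 1, 6, 7, 6, 4, 1, 4, 6] 0 1 = true := by decide +kernel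

theorem rel16 : T.rel 1 [2, 4, 2, 7, 5, 5, 4, 3] 0 1 = true := by decide +kernel

theorem rel17 : T.rel 1 [1, 7, 1, 7, 1, 7, 1, 7] 0 1 = true := by decide +kernel

theorem rel18 : T.rel 1 [7, 1, 7, 7, 1, 7, 7, 1, 7, 7, 1, 7, 5, 5, 5, 5, 1] 0 1 = true := by decide +kernel

theorem rel19 : T.rel 1 [7, 1, 2, 4, 1, 6, 7, 1, 2, 4, 1, 7, 5, 1, 4, 3, 1, 6] 0 1 = true := by decide +kernel

theorem rel20 : T.rel 1 [5, 1, 2, 1] 0 1 = true := by decide +kernel

theorem rel21 : T.rel 1 [6, 1, 3, 1] 0 1 = true := by decide +kernel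

theorem rel22 : T.rel 1 [7, 1, 4, 1] 0 1 = true := by decide +kernel

theorem rel23 : T.rel 1 [6, 5, 3, 2] 0 1 = true := by decide +kernel

theorem rel24 : T.rel 1 [7, 5, 4, 2] 0 1 = true := by decide +kernel

theorem rel25 : T.rel 1 [7, 6, 4, 3] 0 1 = true := by decide +kernel

theorem hcov : T.treeCov (ones 1) L 1 = true := by decide +kernel

theorem hg : lall (fun z => band (memL L z) (band (sub (ones 1) (T.let z).cl) (T.closed (ones 1) z))) gs = true := by decide +kernel

theorem hivk : ivOk (2 * 1) EX IV = true := by decide +kernel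

theorem hrt : RT.ok (2 * 1) EX RL = true := by decide +kernel

theorem hdefs : defs F 21 = true := by decide +kernel

noncomputable def st0_l : List Nat := [nat_lit 0x500001402, nat_lit 0xc0000100000003, nat_lit 0x10000000001600003004, nat_lit 0x1700002002, nat_lit 0xe0001880001403, nat_lit 0x100001880001c03, nat_lit 0x100000100001c03, nat_lit 0x1400003000088000d40000c000300000100001c08, nat_lit 0x1c00002802, nat_lit 0x1c0000ac02, nat_lit 0x100001880000c0002200037000030000c007, nat_lit 0xe000088000fc03, nat_lit 0x41000088000dc00076000030000780010407, nat_lit 0x32000218000c403, nat_lit 0x100002100010403, nat_lit 0x7a000450000280011404, nat_lit 0x230000fc02, nat_lit 0x240000ec02, nat_lit 0xc0002500003403, nat_lit 0x98000000001600013c0005a00001000260000c0000960000d000270000b40c, nat_lit 0x80014402, nat_lit 0x120002980004c03, nat_lit 0x520000980015403, nat_lit 0x140002a80005403, nat_lit 0xc00005402, nat_lit 0x180002a80006403, nat_lit 0x1c0000a00015803, nat_lit 0xbe000130002a000064000b80005b0002c000050000a8000560002f0000700c,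 nat_lit 0x1e0000a00005c03, nat_lit 0x200000a00006c03, nat_lit 0x220000b00015803, nat_lit 0x6700009800158000cc000220000b00004807, nat_lit 0x6900009800158000bc0001c0003000017c0002600056000340000880b, nat_lit 0xc6000230003480015c04, nat_lit 0x180003600018c03, nat_lit 0x1a0003600007803, nat_lit 0x3700006002, nat_lit 0x3700016c02, nat_lit 0x65000388001d003, nat_lit 0x3800006802, nat_lit 0x3b00008002, nat_lit 0x1c0003d00008c03, nat_lit 0x6700034000088000ea0001d0003e80019c07, nat_lit 0x6a0003f80004c03, nat_lit 0x3f00019c02, nat_lit 0x14000400001cc03, nat_lit 0x420001e402, nat_lit 0x4200005002, nat_lit 0x4400015000112000860002a00015800104000520004180015c000a800087000440001500010c000120002900020812, nat_lit 0x980022c02, nat_lit 0x240002980009403, nat_lit 0x240004680009403, nat_lit 0x1300009002, nat_lit 0x260004780009c03, nat_lit 0x260004880009c03, nat_lit 0x12800096000130002440011c00024000460000940011c000270004b8000980c, nat_lit 0x130000260004c00024c04, nat_lit 0x1280026c02, nat_lit 0x28000468000a403, nat_lit 0x280004e8000a403,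 nat_lit 0x13c000a0000140002340011a000290004f0000a008, nat_lit 0x1480028c02]
theorem st0 : band (steps F IV RT base st0_l 21) (Nat.beq (Nat.add 21 (llen st0_l)) 83) = true := by decide +kernel

theorem ep0a : T.treePath [] (Nat.shiftLeft 1 0) 1 = true := by decide +kernel

theorem ep0b : T.treePath [] (Nat.shiftLeft 1 0) 1 = true := by decide +kernel

theorem ep0c : band (lall (fun z => Nat.ble z 255) ([] ++ 1 :: [])) (concl F IV 83 0x14801 (encA ([] ++ 1 :: []) 0)) = true := by decide +kernel

theorem ep0d : band (Rule.ok (2 * 1) EX [] ⟨lapp [] [], [], 0, false⟩) (band (lall (memL L) []) (lall (memL L) [])) = true := by decide +kernel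

theorem cov1 : T.cover 1 [(Nat.shiftLeft 1 0)] = true := by decide +kernel

theorem tl1 : Nat.beq (T.let 1).tt 0 = true := by decide +kernel

theorem ep1a : T.treePath [] (Nat.shiftLeft 1 0) 1 = true := by decide +kernel

theorem ep1b : T.treePath [] (Nat.shiftLeft 1 0) 1 = true := by decide +kernel

theorem ep1c : band (lall (fun z => Nat.ble z 255) ([] ++ 2 :: [])) (concl F IV 83 0x23001 (encA ([] ++ 2 :: []) 0)) = true := by decide +kernel

theorem ep1d : band (Rule.ok (2 * 1) EX [] ⟨lapp [] [], [], 0, false⟩) (band (lall (memL L) []) (lall (memL L) [])) = true := by decide +kernel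

theorem cov2 : T.cover 2 [(Nat.shiftLeft 1 0)] = true := by decide +kernel

theorem tl2 : Nat.beq (T.let 2).tt 0 = true := by decide +kernel

theorem ep2a : T.treePath [] (Nat.shiftLeft 1 0) 1 = true := by decide +kernel

theorem ep2b : T.treePath [] (Nat.shiftLeft 1 0) 1 = true := by decide +kernel

theorem ep2c : band (lall (fun z => Nat.ble z 255) ([] ++ 3 :: [])) (concl F IV 83 0x27001 (encA ([] ++ 3 :: []) 0)) = true := by decide +kernel

theorem ep2d : band (Rule.ok (2 * 1) EX [] ⟨lapp [] [], [], 0, false⟩) (band (lall (memL L) []) (lall (memL L) [])) = true := by decide +kernel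

theorem cov3 : T.cover 3 [(Nat.shiftLeft 1 0)] = true := by decide +kernel

theorem tl3 : Nat.beq (T.let 3).tt 0 = true := by decide +kernel

theorem ep3a : T.treePath [] (Nat.shiftLeft 1 0) 1 = true := by decide +kernel

theorem ep3b : T.treePath [] (Nat.shiftLeft 1 0) 1 = true := by decide +kernel

theorem ep3c : band (lall (fun z => Nat.ble z 255) ([] ++ 4 :: [])) (concl F IV 83 0x29001 (encA ([] ++ 4 :: []) 0)) = true := by decide +kernel

theorem ep3d : band (Rule.ok (2 * 1) EX [] ⟨lapp [] [], [], 0, false⟩) (band (lall (memL L) []) (lall (memL L) [])) = true := by decide +kernel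

theorem cov4 : T.cover 4 [(Nat.shiftLeft 1 0)] = true := by decide +kernel

theorem tl4 : Nat.beq (T.let 4).tt 0 = true := by decide +kernel

theorem rot5_1 : T.rot 5 [1, 2, 1] (sel (ones 1) ip5 1) = true := by decide +kernel

theorem rot5_1r : band (Rule.ok (2 * 1) EX RL ⟨5 :: [1, 2, 1], [], 19, true⟩) (lall (memL L) [1, 2, 1]) = true := by decide +kernel

theorem cov5 : T.cover 5 [(sel (ones 1) ip5 1)] = true := by decide +kernel

theorem tl5 : Nat.beq (T.let 5).tt 0 = true := by decide +kernel

theorem rot6_1 : T.rot 6 [1, 3, 1] (sel (ones 1) ip6 1) = true := by decide +kernel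

theorem rot6_1r : band (Rule.ok (2 * 1) EX RL ⟨6 :: [1, 3, 1], [], 20, true⟩) (lall (memL L) [1, 3, 1]) = true := by decide +kernel

theorem cov6 : T.cover 6 [(sel (ones 1) ip6 1)] = true := by decide +kernel

theorem tl6 : Nat.beq (T.let 6).tt 0 = true := by decide +kernel

theorem rot7_1 : T.rot 7 [1, 4, 1] (sel (ones 1) ip7 1) = true := by decide +kernel

theorem rot7_1r : band (Rule.ok (2 * 1) EX RL ⟨7 :: [1, 4, 1], [], 21, true⟩) (lall (memL L) [1, 4, 1]) = true := by decide +kernel

theorem cov7 : T.cover 7 [(sel (ones 1) ip7 1)] = true := by decide +kernel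

theorem tl7 : Nat.beq (T.let 7).tt 0 = true := by decide +kernel

end Cfsg.Agent.Spor.J3aA1
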