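import Cfsg.Agent.Spor.Chk

set_option autoImplicit false
set_option maxRecDepth 100000000
set_option Elab.async false
noncomputable section

namespace Cfsg.Agent.Spor.J3aA1

def n0 : Net := Net.nil

def n1 : Net := Net.nil

def n2 : Net := Net.nil

def n3 : Net := Net.nil

def ip1 : List Nat := []
def l1 : Let := ⟨0, false, 0x1, 0x0, [0x0]⟩

def ip2 : List Nat := []
def l2 : Let := ⟨1, false, 0x1, 0x0, [0x0]⟩

def ip3 : List Nat := []
def l3 : Let := ⟨2, false, 0x1, 0x0, [0x0]⟩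

def ip4 : List Nat := []
def l4 : Let := ⟨3, false, 0x1, 0x0, [0x0]⟩

def ip5 : List Nat := [0x1]
def l5 : Let := ⟨1, true, 0x1, 0x0, [0x1]⟩

def ip6 : List Nat := [0x1]
def l6 : Let := ⟨2, true, 0x1, 0x0, [0x1]⟩

def ip7 : List Nat := [0x1]
def l7 : Let := ⟨3, true, 0x1, 0x0, [0x1]⟩

def F : Nat := nat_lit 0x40000000000000001500015030001500015020001500000030000000000000001300013000001400014020001400014010001400000030001400013020001300013010001300000020000000000000000a0000a060000a0000a040000a0000a000000b0000007000000000a000000c00000000001200012070000f0000b040000c0000a040000b0000c00000110000b060000c0000a030000c0000b000000e0000c000000d0000a00000100000c02000120000003000120000007000120000e06000110000c06000100000b020000f00000060000f0000d010000d0000b060000d0000b010000b0000a05000000000a010000a00000010000000000000000100007060000700001030000100002030000200001000000400002000000900001000000300002000000800002040000800002030000900003060000400001030000400004000000600004050000900004020000900003020000800001020000200002000000500000020000700003060000600015040000000014030001300013030000000012020000c00011070000b00010040000b0000f020000b0000e070000a0000d060000a0000c040000a0000b030000a0000a0200000000090400002000080300002000070100002000060600001000050500001000040400001000030300001000020200001000010100000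

def rt0_8 : RTree := RTree.node 0x502 ⟨[5, 2], [], 25, false⟩ (RTree.node 0x306 ⟨[3, 6], [], 25, false⟩ (RTree.node 0x205 ⟨[2, 5], [], 25, false⟩ (RTree.node 0x101 ⟨[1, 1], [], 25, false⟩ (RTree.leaf) (RTree.leaf)) (RTree.leaf)) (RTree.node 0x407 ⟨[4, 7], [], 25, false⟩ (RTree.leaf) (RTree.leaf))) (RTree.node 0x704 ⟨[7, 4], [], 25, false⟩ (RTree.node 0x603 ⟨[6, 3], [], 25, false⟩ (RTree.leaf) (RTree.leaf)) (RTree.node 0x30303 ⟨[3, 3, 3], [], 4, true⟩ (RTree.leaf) (RTree.leaf)))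
def rt9_17 : RTree := RTree.node 0x2010201 ⟨[2, 1, 2, 1], [2], 6, true⟩ (RTree.node 0x1050102 ⟨[1, 5, 1, 2], [], 19, false⟩ (RTree.node 0x1030106 ⟨[1, 3, 1, 6], [4], 20, true⟩ (RTree.node 0x1020105 ⟨[1, 2, 1, 5], [2], 19, true⟩ (RTree.leaf) (RTree.leaf)) (RTree.leaf)) (RTree.node 0x1060103 ⟨[1, 6, 1, 3], [], 20, false⟩ (RTree.leaf) (RTree.leaf))) (RTree.node 0x2070504 ⟨[2, 7, 5, 4], [2], 23, true⟩ (RTree.node 0x2060503 ⟨[2, 6, 5, 3], [2], 22, true⟩ (RTree.leaf) (RTree.leaf)) (RTree.node 0x3070604 ⟨[3, 7, 6, 4], [4], 24, true⟩ (RTree.leaf) (RTree.leaf)))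
def rt0_17 : RTree := RTree.node 0x60606 ⟨[6, 6, 6], [], 4, false⟩ (rt0_8) (rt9_17)
def rt18_26 : RTree := RTree.node 0x6050302 ⟨[6, 5, 3, 2], [], 22, true⟩ (RTree.node 0x6010301 ⟨[6, 1, 3, 1], [], 20, true⟩ (RTree.node 0x5070204 ⟨[5, 7, 2, 4], [], 23, false⟩ (RTree.node 0x5010501 ⟨[5, 1, 5, 1], [], 6, false⟩ (RTree.leaf) (RTree.leaf)) (RTree.leaf)) (RTree.node 0x6040307 ⟨[6, 4, 3, 7], [6], 24, true⟩ (RTree.leaf) (RTree.leaf))) (RTree.node 0x7050402 ⟨[7, 5, 4, 2], [], 23, true⟩ (RTree.node 0x6070304 ⟨[6, 7, 3, 4], [], 24, false⟩ (RTree.leaf) (RTree.leaf)) (RTree.node 0x4040503020304 ⟨[4, 4, 5, 3, 2, 3, 4], [3, 5, 7], 9, true⟩ (RTree.leaf) (RTree.leaf)))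
def rt27_35 : RTree := RTree.node 0x30506010602030105030201 ⟨[3, 5, 6, 1, 6, 2, 3, 1, 5, 3, 2, 1], [0], 8, true⟩ (RTree.node 0x702020405070506 ⟨[7, 2, 2, 4, 5, 7, 5, 6], [4], 15, false⟩ (RTree.node 0x402070505040302 ⟨[4, 2, 7, 5, 5, 4, 3, 2], [3], 15, true⟩ (RTree.node 0x302040207050504 ⟨[3, 2, 4, 2, 7, 5, 5, 4], [4], 15, true⟩ (RTree.leaf) (RTree.leaf)) (RTree.leaf)) (RTree.node 0x20203050503020206050506 ⟨[2, 2, 3, 5, 5, 3, 2, 2, 6, 5, 5, 6], [2], 0, true⟩ (RTree.leaf) (RTree.leaf))) (RTree.node 0x2020605010301030103010503 ⟨[2, 2, 6, 5, 1, 3, 1, 3, 1, 3, 1, 5, 3], [3, 5, 2, 2], 7, true⟩ (RTree.node 0x50601060203010503020103 ⟨[5, 6, 1, 6, 2, 3, 1, 5, 3, 2, 1, 3], [0, 5], 8, true⟩ (RTree.leaf) (RTree.leaf)) (RTree.node 0x70102040106070102040107050104030106 ⟨[7, 1, 2, 4, 1, 6, 7, 1, 2, 4, 1, 7, 5, 1, 4, 3, 1, 6], [], 18, true⟩ (RTree.leaf) (RTree.leaf)))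
def rt18_35 : RTree := RTree.node 0x7060506020707 ⟨[7, 6, 5, 6, 2, 7, 7], [3, 5, 7], 9, false⟩ (rt18_26) (rt27_35)
def rt0_35 : RTree := RTree.node 0x4060703 ⟨[4, 6, 7, 3], [6], 24, false⟩ (rt0_17) (rt18_35)
def RT : RTree := rt0_35

def NT : List Net := [n0, n1, n2, n3]
def LT : List Let := [⟨0, false, 0, 0, []⟩, l1, l2, l3, l4, l5, l6, l7]
def T : Tab := ⟨NT, LT⟩
def EX : List (List Nat) := [[], [0], [2], [4], [6], [3], [5], [7]]
def RL : List (List Nat) := [[2, 5, 3, 3, 5, 2, 2, 4, 3, 3, 4, 2], [3, 4, 4, 4, 2], [3, 5, 2, 5, 3, 4, 2, 4], [2, 5, 3, 5, 2, 4, 3, 4], [4, 4, 4], [2, 4, 4, 4, 3], [2, 0, 2, 0], [3, 5, 2, 2, 4, 3, 0, 4, 0, 4, 0, 4, 0], [2, 4, 3, 0, 4, 2, 5, 0, 5, 3, 4, 0], [4, 3, 6, 6, 6, 4, 2], [6, 4, 6, 6, 3, 4, 2], [4, 3, 4, 6, 6, 6, 2], [6, 0, 7, 5, 6, 0, 7, 4], [6, 3, 7, 4, 6, 2, 7, 4], [5, 6, 0, 6, 5, 7, 5, 0, 7], [4, 6, 3, 3, 7, 2, 6, 2], [7, 0, 7, 0, 7, 0, 7, 0], [0,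 3, 3, 3, 3, 7, 0, 7, 7, 0, 7, 7, 0, 7, 7, 0, 7], [5, 0, 4, 6, 0, 3, 7, 0, 6, 2, 0, 7, 5, 0, 6, 2, 0, 7], [0, 2, 0, 3], [0, 4, 0, 5], [0, 6, 0, 7], [2, 4, 3, 5], [2, 6, 3, 7], [4, 6, 5, 7]]
def XL : List (List Nat) := []
def BW : List (List Nat) := []
def IV : Nat := 0x403020706050100
def L : List Nat := [1, 2, 3, 4, 5, 6, 7]
def gs : List Nat := [1, 2, 3, 4]
def base : List Nat := []

end Cfsg.Agent.Spor.J3aA1
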